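import Groth.Agent.WiebeLib.Basic
import Groth.Agent.KRegLib.WeakReg
import Groth.Prelude.Def_KoszulSh
import Mathlib.LinearAlgebra.ExteriorPower.Basis

/-!
# The Koszul complex on exterior powers of a free module is the elementary one
-/

set_option autoImplicit false
set_option linter.unusedSectionVars false
set_option linter.style.haveILetI false
set_option backward.isDefEq.respectTransparency false
set_option backward.isDefEq.respectTransparency.types false

universe u

open exteriorPower

noncomputable section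

namespace Groth.Agent.KoszShX

open WiebeLib

variable {R : Type u} [CommRing R]

theorem d_prodRows_zero {n : ℕ} (g : Fin n → R) (C : Fin 1 → Fin n → R) :
    d n g 0 (prodRows 1 C) = (∑ j, C 0 j * g j) • prodRows 0 (fun i : Fin 0 => i.elim0) := by
  rw [prodRows_succ, d_eta_zero]
  exact congrArg _ (congrArg _ (Subsingleton.elim _ _))

theorem d_prodRows {n : ℕ} (g : Fin n → R) : ∀ (p : ℕ) (C : Fin (p + 1) → Fin n → R),
    d n g p (prodRows (p + 1) C) =
      ∑ i : Fin (p + 1), ((-1 : R) ^ (i : ℕ) * ∑ j, C i j * g j) • prodRows p (fun l => C (i.succAbove l))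
  | 0, C => by
    rw [d_prodRows_zero, Fin.sum_univ_one]
    simp only [Fin.val_zero, pow_zero, one_mul]
    exact congrArg _ (congrArg _ (Subsingleton.elim _ _))
  | p + 1, C => by
    have h := d_eta n g (C 0) p (prodRows (p + 1) fun l => C l.succ)
    rw [← prodRows_succ C, d_prodRows g p (fun l => C l.succ)] at h
    rw [eq_sub_of_add_eq h, map_sum, sub_eq_add_neg, ← Finset.sum_neg_distrib]
    conv_rhs => rw [Fin.sum_univ_succ]
    refine congrArg₂ (· + ·) ?_ (Finset.sum_congr rfl fun i _ => ?_)
    · simp only [Fin.val_zero, pow_zero, one_mul, Fin.succAbove_zero]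
    · rw [map_smul, ← neg_smul, Fin.val_succ, pow_succ, prodRows_succ]
      refine congrArg₂ (· • ·) (by ring) ?_
      simp only [Fin.succ_succAbove_zero, Fin.succ_succAbove_succ]

/-- Products of rows, as an alternating map. -/
def prodAlt (n m : ℕ) : (Fin n → R) [⋀^Fin m]→ₗ[R] Ko R n m :=
  { prodRows (R := R) (n := n) m with map_eq_zero_of_eq' := fun C i j h hij => prodRows_eq_zero m C i j h hij }

theorem prodAlt_apply {n m : ℕ} (C : Fin m → Fin n → R) : prodAlt n m C = prodRows m C := rfl

theorem eta_single_emb : ∀ (n k : ℕ) (x : Ko R n k),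
    eta (n + 1) (Pi.single 0 1) k (emb n k x) = (Sum.elim (0 : Idx n (k + 1) → R) x : Ko R (n + 1) (k + 1)) := by
  intro n k x
  have h0 : (fun i : Fin n => (Pi.single 0 1 : Fin (n + 1) → R) i.succ) = 0 :=
    funext fun i => Pi.single_eq_of_ne (Fin.succ_ne_zero i) _
  have he : ∀ k : ℕ, eta n (0 : Fin n → R) k = 0 := fun k => by
    have h := prodRows.eta_smul (n := n) (k := k) (c := (0 : R)) (v := (0 : Fin n → R))
    rw [zero_smul, zero_smul] at h
    exact h
  cases k with
  | zero =>
    apply ko_ext
    · simp only [eta, fst_pair, h0, he, LinearMap.zero_apply]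
      rfl
    · simp only [eta, snd_pair, Pi.single_eq_same, one_smul]
      rfl
  | succ k =>
    apply ko_ext
    · simp only [eta, fst_pair, h0, he, LinearMap.coe_comp, Function.comp_apply, LinearMap.zero_apply]
      rfl
    · simp only [eta, snd_pair, h0, he, Pi.single_eq_same, one_smul, sub_zero, LinearMap.coe_comp,
        LinearMap.sub_apply, Function.comp_apply, LinearMap.zero_apply, emb, fst_pair, LinearMap.id_apply]
      rfl

theorem span_prodRows : ∀ (n k : ℕ), Submodule.span R (Set.range (prodRows (R := R) (n := n) k)) = ⊤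
  | n, 0 => by
    refine eq_top_iff.2 fun x _ => ?_
    have hx : x = base n x • prodRows 0 (fun i : Fin 0 => (i.elim0 : Fin n → R)) := by
      apply (base (R := R) n).injective
      rw [map_smul, show prodRows 0 (fun i : Fin 0 => (i.elim0 : Fin n → R)) = (base n).symm 1 from rfl,
        LinearEquiv.apply_symm_apply, smul_eq_mul, mul_one]
    rw [hx]
    exact Submodule.smul_mem _ _ (Submodule.subset_span ⟨_, rfl⟩)
  | 0, k + 1 => by
    haveI := subsingleton_ko R (Nat.succ_pos k)
    exact Subsingleton.elim _ _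
  | n + 1, k + 1 => by
    refine eq_top_iff.2 fun x _ => ?_
    have hemb : ∀ (m : ℕ) (z : Ko R n m),
        emb n m z ∈ Submodule.span R (Set.range (prodRows (R := R) (n := n + 1) m)) := fun m z => by
      have hz : emb n m z ∈ (Submodule.span R (Set.range (prodRows (R := R) (n := n) m))).map (emb n m) :=
        ⟨z, by rw [span_prodRows n m]; trivial, rfl⟩
      rw [Submodule.map_span] at hz
      refine Submodule.span_mono ?_ hz
      rintro _ ⟨_, ⟨C, rfl⟩, rfl⟩
      exact ⟨_, prodRows_emb m C⟩
    have hx : x = emb n (k + 1) (fstL n k x) + eta (n + 1) (Pi.single 0 1) k (emb n k (sndL n k x)) := by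
      rw [eta_single_emb]
      funext i
      cases i with
      | inl i => exact (add_zero (x (Sum.inl i))).symm
      | inr i => exact (zero_add (x (Sum.inr i))).symm
    rw [hx]
    refine add_mem (hemb _ _) ?_
    have h := Submodule.mem_map_of_mem (f := eta (n + 1) (Pi.single 0 1 : Fin (n + 1) → R) k) (hemb k (sndL n k x))
    rw [Submodule.map_span] at h
    refine Submodule.span_mono ?_ h
    rintro _ ⟨_, ⟨C, rfl⟩, rfl⟩
    exact ⟨Fin.cons (Pi.single 0 1) C, by rw [prodRows_succ]; simp only [Fin.cons_zero, Fin.cons_succ]⟩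

theorem card_idx : ∀ n k : ℕ, Fintype.card (Idx n k) = n.choose k
  | 0, 0 => Fintype.card_unit
  | 0, k + 1 => Fintype.card_eq_zero_iff.2 (isEmpty_idx (Nat.succ_pos k))
  | n + 1, 0 => by
    rw [Nat.choose_zero_right]
    exact (card_idx n 0).trans (Nat.choose_zero_right n)
  | n + 1, k + 1 => by
    rw [show Fintype.card (Idx (n + 1) (k + 1)) = Fintype.card (Idx n (k + 1) ⊕ Idx n k) from
      Fintype.card_congr (Equiv.refl _), Fintype.card_sum, card_idx n (k + 1), card_idx n k, Nat.choose_succ_succ]
    exact Nat.add_comm _ _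

variable {M : Type u} [AddCommGroup M] [Module R M] {n : ℕ}

/-- The comparison map attached to a basis. -/
def cmp (b : Module.Basis (Fin n) R M) (k : ℕ) : ↥(⋀[R]^k M) →ₗ[R] Ko R n k :=
  alternatingMapLinearEquiv ((prodAlt n k).compLinearMap b.equivFun.toLinearMap)

theorem cmp_ιMulti (b : Module.Basis (Fin n) R M) (k : ℕ) (e : Fin k → M) :
    cmp b k (ιMulti R k e) = prodRows k (fun i => b.equivFun (e i)) := by
  rw [cmp, alternatingMapLinearEquiv_apply_ιMulti]
  rfl

theorem cmp_bijective [Nontrivial R] (b : Module.Basis (Fin n) R M) (k : ℕ) : Function.Bijective (cmp b k) := by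
  have hs : Function.Surjective (cmp b k) := by
    rw [← LinearMap.range_eq_top, eq_top_iff, ← span_prodRows n k, Submodule.span_le]
    rintro _ ⟨C, rfl⟩
    refine ⟨ιMulti R k fun i => b.equivFun.symm (C i), ?_⟩
    rw [cmp_ιMulti]
    simp only [LinearEquiv.apply_symm_apply]
  haveI : Module.Free R M := Module.Free.of_basis b
  haveI : Module.Finite R M := Module.Finite.of_basis b
  have hr : Module.finrank R ↥(⋀[R]^k M) = Module.finrank R (Ko R n k) := by
    rw [exteriorPower.finrank_eq, Module.finrank_eq_card_basis b, Fintype.card_fin, Module.finrank_pi, card_idx]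
  let e := LinearEquiv.ofFinrankEq (R := R) (Ko R n k) ↥(⋀[R]^k M) hr.symm
  refine ⟨fun x y h => ?_, hs⟩
  have hi := OrzechProperty.injective_of_surjective_endomorphism (e.toLinearMap ∘ₗ cmp b k) (e.surjective.comp hs)
  exact hi (congrArg e h)

theorem cmp_dGen (b : Module.Basis (Fin n) R M) (φ : M →ₗ[R] R) (p : ℕ) (e : Fin (p + 1) → M) :
    cmp b p (KoszSh.dGen φ p e) = d n (fun i => φ (b i)) p (cmp b (p + 1) (ιMulti R (p + 1) e)) := by
  rw [cmp_ιMulti, d_prodRows, KoszSh.dGen, map_sum]
  refine Finset.sum_congr rfl fun i _ => ?_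
  rw [map_smul, cmp_ιMulti]
  refine congrArg (· • _) (congrArg _ ?_)
  conv_lhs => rw [← b.sum_equivFun (e i)]
  rw [map_sum]
  exact Finset.sum_congr rfl fun j _ => by rw [map_smul, smul_eq_mul]

/-- A weakly regular form on a free module has an exact Koszul complex in positive degrees. -/
theorem exact_of_isWeaklyRegular (b : Module.Basis (Fin n) R M) (φ : M →ₗ[R] R)
    (h : RingTheory.Sequence.IsWeaklyRegular R (List.ofFn fun i => φ (b i)))
    (D : ∀ p, ↥(⋀[R]^(p + 1) M) →ₗ[R] ↥(⋀[R]^p M))
    (hD : ∀ p e, D p (ιMulti R (p + 1) e) = KoszSh.dGen φ p e)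
    (p : ℕ) (z : ↥(⋀[R]^(p + 1) M)) (hz : D p z = 0) : ∃ y, D (p + 1) y = z := by
  haveI : Module.Free R M := Module.Free.of_basis b
  cases subsingleton_or_nontrivial R with
  | inl _ =>
    haveI := Module.subsingleton R ↥(⋀[R]^(p + 1) M)
    exact ⟨0, Subsingleton.elim _ _⟩
  | inr _ =>
    have hcomm : ∀ q, (cmp b q).comp (D q) = (d n (fun i => φ (b i)) q).comp (cmp b (q + 1)) := fun q =>
      exteriorPower.linearMap_ext (AlternatingMap.ext fun e => by
        show cmp b q (D q (ιMulti R (q + 1) e)) = _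
        rw [hD, cmp_dGen]
        rfl)
    obtain ⟨w, hw⟩ := KRegLib.isExact_of_isWeaklyRegular (fun i => φ (b i)) h p (cmp b (p + 1) z) (by
      rw [← LinearMap.comp_apply, ← hcomm, LinearMap.comp_apply, hz, map_zero])
    obtain ⟨y, rfl⟩ := (cmp_bijective b (p + 1 + 1)).2 w
    refine ⟨y, (cmp_bijective b (p + 1)).1 ?_⟩
    rw [← hw, ← LinearMap.comp_apply, hcomm, LinearMap.comp_apply]

end Groth.Agent.KoszShX
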