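import Groth.Agent.ExtPowSh.Functor
import Groth.Agent.ExtPowSh.Basic
import Groth.Agent.KoszShX.Alg
import Mathlib.RingTheory.Regular.Flat
import Mathlib.RingTheory.Localization.Module

/-!
# Koszul complexes of cosections: maps and exactness on affine sections
-/

set_option linter.style.haveILetI false
set_option linter.unusedSectionVars false
set_option backward.isDefEq.respectTransparency false
set_option backward.isDefEq.respectTransparency.types false
set_option maxHeartbeats 800000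
set_option autoImplicit false

universe u

open CategoryTheory CategoryTheory.Limits AlgebraicGeometry TopologicalSpace Opposite

noncomputable section

namespace Groth.Agent.KoszShX

open ExtPowSh (appL map_appL resL)

variable {X : Scheme.{u}} {E F : X.Modules} {s : E ⟶ Coh.structureModule X} {t : F ⟶ Coh.structureModule X}

/-- Morphisms out of a term of a Koszul complex are determined by wedges on affine opens. -/
theorem hom_ext (C : KoszSh.Cx E s) {p : ℕ} {N : X.Modules} {φ ψ : C.K.X p ⟶ N}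
    (h : ∀ (U : X.affineOpens) (e : Fin p → Γ(E, U.1)),
      φ.app U.1 ((C.loc p U).symm (exteriorPower.ιMulti _ p e)) =
        ψ.app U.1 ((C.loc p U).symm (exteriorPower.ιMulti _ p e))) : φ = ψ := by
  refine sub_eq_zero.1 (ExtPowSh.hom_eq_zero_of_isBasis _ X.isBasis_affineOpens fun U hU z => ?_)
  have hl : (appL φ U).comp (C.loc p ⟨U, hU⟩).symm.toLinearMap =
      (appL ψ U).comp (C.loc p ⟨U, hU⟩).symm.toLinearMap :=
    exteriorPower.linearMap_ext (AlternatingMap.ext fun e => h ⟨U, hU⟩ e)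
  obtain ⟨w, rfl⟩ := (C.loc p ⟨U, hU⟩).symm.surjective z
  exact sub_eq_zero.2 (LinearMap.congr_fun hl w)

theorem res_semilinear {N : X.Modules} {U V : X.Opens} (h : V ≤ U) (r : Γ(X, U)) (a : Γ(N, U)) :
    resL N h (r • a) = (X.presheaf.map (homOfLE h).op).hom r • resL N h a :=
  LinearMap.map_smulₛₗ _ r a

/-- The map of degree `p` terms induced by a map of the modules. -/
theorem exists_map (f : E ⟶ F) (C : KoszSh.Cx E s) (D : KoszSh.Cx F t) (p : ℕ) :
    ∃ φ : C.K.X p ⟶ D.K.X p, ∀ (U : X.affineOpens) (e : Fin p → Γ(E, U.1)),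
      φ.app U.1 ((C.loc p U).symm (exteriorPower.ιMulti _ p e)) =
        (D.loc p U).symm (exteriorPower.ιMulti _ p (fun j => f.app U.1 (e j))) := by
  let m : ∀ U : X.affineOpens, Γ(C.K.X p, U.1) →ₗ[Γ(X, U.1)] Γ(D.K.X p, U.1) := fun U =>
    (D.loc p U).symm.toLinearMap.comp ((exteriorPower.map p (appL f U.1)).comp (C.loc p U).toLinearMap)
  have hm : ∀ (U : X.affineOpens) (e : Fin p → Γ(E, U.1)),
      m U ((C.loc p U).symm (exteriorPower.ιMulti _ p e)) =
        (D.loc p U).symm (exteriorPower.ιMulti _ p (fun j => f.app U.1 (e j))) := fun U e => by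
    show (D.loc p U).symm (exteriorPower.map p (appL f U.1) (C.loc p U ((C.loc p U).symm _))) = _
    rw [LinearEquiv.apply_symm_apply]
    exact congrArg (D.loc p U).symm (exteriorPower.map_apply_ιMulti (appL f U.1) e)
  obtain ⟨φ, hφ⟩ := ExtPowSh.exists_hom_of_affine (M := C.K.X p) (N := D.K.X p) m fun U V h z => by
    obtain ⟨w, rfl⟩ := (C.loc p U).symm.surjective z
    refine LinearMap.congr_fun (ExtPowSh.hom_ext
      (φ := (resL (D.K.X p) h).comp ((m U).comp (C.loc p U).symm.toLinearMap))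
      (ψ := (m V).comp ((resL (C.K.X p) h).comp (C.loc p U).symm.toLinearMap)) fun e => ?_) w
    show resL (D.K.X p) h (m U _) = m V (resL (C.K.X p) h _)
    refine (congrArg (resL (D.K.X p) h) (hm U e)).trans ((D.loc_res p U V h _).trans ?_)
    refine Eq.trans ?_ ((hm V _).symm.trans (congrArg (m V) (C.loc_res p U V h e).symm))
    exact congrArg _ (congrArg _ (funext fun j => map_appL f h (e j)))
  exact ⟨φ, fun U e => (hφ U _).trans (hm U e)⟩

theorem secForm_natural (f : E ⟶ F) (hf : f ≫ t = s) (U : X.Opens) (e : Γ(E, U)) :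
    KoszSh.secForm t U (f.app U e) = KoszSh.secForm s U e := by
  subst hf
  rfl

theorem existsUnique_chainMap (f : E ⟶ F) (hf : f ≫ t = s) (C : KoszSh.Cx E s) (D : KoszSh.Cx F t) :
    ∃! φ : C.K ⟶ D.K, ∀ (p : ℕ) (U : X.affineOpens) (e : Fin p → Γ(E, U.1)),
      (φ.f p).app U.1 ((C.loc p U).symm (exteriorPower.ιMulti _ p e)) =
        (D.loc p U).symm (exteriorPower.ιMulti _ p (fun j => f.app U.1 (e j))) := by
  choose φ hφ using exists_map f C D
  refine ⟨{ f := φ, comm' := fun i j hij => ?_ }, hφ, fun ψ hψ => ?_⟩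
  · obtain rfl : j + 1 = i := hij
    refine hom_ext C fun U e => ?_
    show (D.K.d (j + 1) j).app U.1 ((φ (j + 1)).app U.1 _) = (φ j).app U.1 ((C.K.d (j + 1) j).app U.1 _)
    rw [hφ, D.rule, C.rule]
    show _ = appL (φ j) U.1 _
    rw [KoszSh.dGen, KoszSh.dGen, map_sum, map_sum, map_sum]
    refine Finset.sum_congr rfl fun i _ => ?_
    rw [map_smul, map_smul, map_smul, secForm_natural f hf]
    exact congrArg (_ • ·) (hφ j U _).symm
  · refine HomologicalComplex.hom_ext _ _ fun p => hom_ext C fun U e => ?_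
    exact (hψ p U e).trans (hφ p U e).symm

/-- The differential of a Koszul complex, read on exterior powers over an affine open. -/
def D (C : KoszSh.Cx E s) (U : X.affineOpens) (p : ℕ) :
    ↥(⋀[Γ(X, U.1)]^(p + 1) Γ(E, U.1)) →ₗ[Γ(X, U.1)] ↥(⋀[Γ(X, U.1)]^p Γ(E, U.1)) :=
  (C.loc p U).toLinearMap.comp ((appL (C.K.d (p + 1) p) U.1).comp (C.loc (p + 1) U).symm.toLinearMap)

theorem D_ιMulti (C : KoszSh.Cx E s) (U : X.affineOpens) (p : ℕ) (e : Fin (p + 1) → Γ(E, U.1)) :
    D C U p (exteriorPower.ιMulti _ (p + 1) e) = KoszSh.dGen (KoszSh.secForm s U.1) p e := by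
  show C.loc p U ((C.K.d (p + 1) p).app U.1 _) = _
  exact (congrArg (C.loc p U) (C.rule p U e)).trans (LinearEquiv.apply_symm_apply _ _)

theorem secForm_res (s : E ⟶ Coh.structureModule X) {U V : X.Opens} (h : V ≤ U) (e : Γ(E, U)) :
    KoszSh.secForm s V (resL E h e) = (X.presheaf.map (homOfLE h).op).hom (KoszSh.secForm s U e) :=
  (map_appL s h e).symm

/-- A regular section has an exact Koszul complex in positive degrees. -/
theorem isZero_homology {n : ℕ} (hE : Coh.IsQCoh E) (s : E ⟶ Coh.structureModule X)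
    (hs : ∀ x : X, ∃ U : X.affineOpens, x ∈ U.1 ∧ ∃ b : Module.Basis (Fin n) Γ(X, U.1) Γ(E, U.1),
      RingTheory.Sequence.IsWeaklyRegular Γ(X, U.1) (List.ofFn fun k => KoszSh.secForm s U.1 (b k)))
    (C : KoszSh.Cx E s) (p : ℕ) : IsZero (C.K.homology (p + 1)) := by
  rw [← HomologicalComplex.exactAt_iff_isZero_homology,
    HomologicalComplex.exactAt_iff' _ (p + 2) (p + 1) p (by simp) (by simp)]
  refine RelTildeX.exact_of_locally _ fun V σ hσ x hxV => ?_
  obtain ⟨U, hxU, b, hreg⟩ := hs x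
  obtain ⟨g, hgle, hxg⟩ := U.2.exists_basicOpen_le (V := V) ⟨x, hxV⟩ hxU
  let W : X.affineOpens := ⟨X.basicOpen g, U.2.basicOpen g⟩
  refine ⟨W.1, hgle, hxg, ?_⟩
  have hle : W.1 ≤ U.1 := X.basicOpen_le g
  letI := (X.presheaf.map (homOfLE hle).op).hom.toAlgebra
  letI : Module Γ(X, U.1) Γ(E, W.1) := Module.compHom _ (X.presheaf.map (homOfLE hle).op).hom
  haveI : IsScalarTower Γ(X, U.1) Γ(X, W.1) Γ(E, W.1) := .of_algebraMap_smul fun _ _ => rfl
  haveI : IsLocalization.Away g Γ(X, W.1) := U.2.isLocalization_basicOpen g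
  haveI : Module.Flat Γ(X, U.1) Γ(X, W.1) := IsLocalization.flat Γ(X, W.1) (Submonoid.powers g)
  let r : Γ(E, U.1) →ₗ[Γ(X, U.1)] Γ(E, W.1) :=
    { toFun := resL E hle, map_add' := map_add _, map_smul' := fun c a => LinearMap.map_smulₛₗ _ c a }
  haveI : IsLocalizedModule (Submonoid.powers g) r := QCoh.isLocalizedModule_basicRes g hE U.2
  let b' : Module.Basis (Fin n) Γ(X, W.1) Γ(E, W.1) :=
    b.ofIsLocalizedModule Γ(X, W.1) (Submonoid.powers g) r
  have hb : ∀ k, KoszSh.secForm s W.1 (b' k) = algebraMap Γ(X, U.1) Γ(X, W.1) (KoszSh.secForm s U.1 (b k)) :=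
    fun k => by
    rw [show b' k = r (b k) from b.ofIsLocalizedModule_apply Γ(X, W.1) (Submonoid.powers g) r k]
    exact secForm_res s hle (b k)
  have hreg' : RingTheory.Sequence.IsWeaklyRegular Γ(X, W.1) (List.ofFn fun k => KoszSh.secForm s W.1 (b' k)) := by
    have h := hreg.of_flat (S := Γ(X, W.1))
    rw [List.map_ofFn] at h
    simpa only [hb, Function.comp_def] using h
  obtain ⟨y, hy⟩ := exact_of_isWeaklyRegular b' (KoszSh.secForm s W.1) hreg' (D C W) (D_ιMulti C W) p
    (C.loc (p + 1) W ((C.K.X (p + 1)).presheaf.map (homOfLE hgle).op σ)) (by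
      show C.loc p W ((C.K.d (p + 1) p).app W.1 ((C.loc (p + 1) W).symm (C.loc (p + 1) W _))) = 0
      rw [LinearEquiv.symm_apply_apply]
      refine (congrArg (C.loc p W) ?_).trans (map_zero _)
      refine (map_appL (C.K.d (p + 1) p) hgle σ).symm.trans ?_
      exact (congrArg ((C.K.X p).val.map (homOfLE hgle).op) hσ).trans (map_zero _))
  refine ⟨(C.loc (p + 2) W).symm y, ?_⟩
  exact (C.loc (p + 1) W).injective hy

end Groth.Agent.KoszShX
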